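import Cfsg.Agent.H662.HT.Frame
import Cfsg.Agent.H528.HT.Frame
import Cfsg.Agent.H486.HT.Seven

/-!
# Frames of five anticommuting involutions: the case `p = 7` (S3540, S3577, C3b; helper140)

`permHom`: the action of `P` on the five pairs `± t k`; `card_dvd`: if all transpositions occur, then
`1920` divides `|P|`; `alpha_seven`.
-/

set_option autoImplicit false

open Finset

namespace Cfsg.Agent.H140.HT

open Cfsg.Agent.H828.HT Cfsg.Agent.H662.HT

universe u

section perm

variable {p : ℕ} [Fact p.Prime] {M : Type u} [AddCommGroup M] [Module (ZMod p) M]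
  {t : Fin 5 → (M ≃ₗ[ZMod p] M)} {P : Subgroup (M ≃ₗ[ZMod p] M)}

theorem eq_zero_of_neg (hp : 3 ≤ p) {v : M} (h : v = -v) : v = 0 := by
  have h1 : (2 : ZMod p) • v = 0 := by
    rw [two_smul]
    nth_rewrite 2 [h]
    exact add_neg_cancel v
  rcases smul_eq_zero.1 h1 with h2 | h2
  · exfalso
    have h3 : (2 : ZMod p) = ((2 : ℕ) : ZMod p) := by norm_num
    rw [h3, ZMod.natCast_eq_zero_iff] at h2
    have := Nat.le_of_dvd (by norm_num) h2
    omega
  · exact h2

/-- `g t_k = ± t_j g` -/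
def Rel (t : Fin 5 → (M ≃ₗ[ZMod p] M)) (g : M ≃ₗ[ZMod p] M) (k j : Fin 5) : Prop :=
  (∀ v : M, g (t k v) = t j (g v)) ∨ (∀ v : M, g (t k v) = -(t j (g v)))

theorem Rel.one (k : Fin 5) : Rel t 1 k k := Or.inl fun _ => rfl

theorem Rel.mul {g h : M ≃ₗ[ZMod p] M} {i j k : Fin 5} (h1 : Rel t g j k) (h2 : Rel t h i j) :
    Rel t (g * h) i k := by
  rcases h1 with h1 | h1 <;> rcases h2 with h2 | h2
  · left; intro v; change g (h (t i v)) = t k (g (h v)); rw [h2, h1]
  · right; intro v; change g (h (t i v)) = -(t k (g (h v))); rw [h2, map_neg, h1]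
  · right; intro v; change g (h (t i v)) = -(t k (g (h v))); rw [h2, h1]
  · left; intro v; change g (h (t i v)) = t k (g (h v)); rw [h2, map_neg, h1, neg_neg]

theorem sq' (ht : Frame5 t) (k : Fin 5) (v : M) : t k (t k v) = v :=
  LinearEquiv.congr_fun (ht.sq k) v

theorem anti' (ht : Frame5 t) {j k : Fin 5} (h : j ≠ k) (v : M) : t j (t k v) = -(t k (t j v)) :=
  ht.anti j k h v

theorem Rel.unique [Nontrivial M] (hp : 3 ≤ p) (ht : Frame5 t) {g : M ≃ₗ[ZMod p] M} {k j j' : Fin 5}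
    (h1 : Rel t g k j) (h2 : Rel t g k j') : j = j' := by
  by_contra hne
  obtain ⟨v, hv⟩ := exists_ne (0 : M)
  have key : (∀ w, t j w = t j' w) ∨ (∀ w, t j w = -(t j' w)) := by
    rcases h1 with h1 | h1 <;> rcases h2 with h2 | h2
    · left; intro w
      have h3 := h1 (g.symm w)
      rw [h2, LinearEquiv.apply_symm_apply] at h3
      exact h3.symm
    · right; intro w
      have h3 := h1 (g.symm w)
      rw [h2, LinearEquiv.apply_symm_apply] at h3
      exact h3.symm
    · right; intro w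
      have h3 := h1 (g.symm w)
      rw [h2, LinearEquiv.apply_symm_apply] at h3
      rw [h3, neg_neg]
    · left; intro w
      have h3 := h1 (g.symm w)
      rw [h2, LinearEquiv.apply_symm_apply, neg_inj] at h3
      exact h3.symm
  have ha := anti' ht hne v
  apply hv
  rcases key with key | key
  · rw [key (t j' v), key v, sq' ht] at ha
    exact eq_zero_of_neg hp ha
  · rw [key (t j' v), key v, map_neg, sq' ht, neg_neg] at ha
    exact eq_zero_of_neg hp ha.symm

/-- the action on the five pairs `± t k` -/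
noncomputable def act [Nontrivial M] (hp : 3 ≤ p) (ht : Frame5 t) (hn : Norm5 t P) : MulAction P (Fin 5) where
  smul g k := Classical.choose (hn g g.2 k)
  one_smul k := Rel.unique hp ht (Classical.choose_spec (hn (1 : P) (1 : P).2 k)) (Rel.one k)
  mul_smul g h k := by
    refine Rel.unique hp ht (Classical.choose_spec (hn (g * h : P) (g * h : P).2 k)) ?_
    exact Rel.mul (Classical.choose_spec (hn g g.2 _)) (Classical.choose_spec (hn h h.2 k))

/-- the permutation of the five pairs `± t k` -/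
noncomputable def permHom [Nontrivial M] (hp : 3 ≤ p) (ht : Frame5 t) (hn : Norm5 t P) : P →* Equiv.Perm (Fin 5) :=
  @MulAction.toPermHom P (Fin 5) _ (act hp ht hn)

theorem permHom_spec [Nontrivial M] (hp : 3 ≤ p) (ht : Frame5 t) (hn : Norm5 t P) (g : P) (k : Fin 5) :
    Rel t g k (permHom hp ht hn g k) := Classical.choose_spec (hn g g.2 k)

theorem permHom_eq [Nontrivial M] (hp : 3 ≤ p) (ht : Frame5 t) (hn : Norm5 t P) {g : P} {k j : Fin 5}
    (h : Rel t g k j) : permHom hp ht hn g k = j :=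
  Rel.unique hp ht (permHom_spec hp ht hn g k) h

open Classical in
/-- the sign -/
noncomputable def sgn (t : Fin 5 → (M ≃ₗ[ZMod p] M)) (g : M ≃ₗ[ZMod p] M) (k : Fin 5) : ℤˣ :=
  if ∀ v : M, g (t k v) = t k (g v) then 1 else -1

theorem sgn_pos {g : M ≃ₗ[ZMod p] M} {k : Fin 5} (h : ∀ v : M, g (t k v) = t k (g v)) : sgn t g k = 1 := if_pos h

theorem sgn_neg [Nontrivial M] (hp : 3 ≤ p) {g : M ≃ₗ[ZMod p] M} {k : Fin 5}
    (h : ∀ v : M, g (t k v) = -(t k (g v))) : sgn t g k = -1 := by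
  refine if_neg fun h' => ?_
  obtain ⟨v, hv⟩ := exists_ne (0 : M)
  have h1 := (h' v).symm.trans (h v)
  have h2 := eq_zero_of_neg hp h1
  rw [LinearEquiv.map_eq_zero_iff, LinearEquiv.map_eq_zero_iff] at h2
  exact hv h2

theorem sgn_mul [Nontrivial M] (hp : 3 ≤ p) {g h : M ≃ₗ[ZMod p] M} {k : Fin 5} (hg : Rel t g k k) (hh : Rel t h k k) :
    sgn t (g * h) k = sgn t g k * sgn t h k := by
  rcases hg with hg | hg <;> rcases hh with hh | hh
  · rw [sgn_pos hg, sgn_pos hh, sgn_pos, one_mul]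
    intro v; change g (h (t k v)) = t k (g (h v)); rw [hh, hg]
  · rw [sgn_pos hg, sgn_neg hp hh, sgn_neg hp, one_mul]
    intro v; change g (h (t k v)) = -(t k (g (h v))); rw [hh, map_neg, hg]
  · rw [sgn_neg hp hg, sgn_pos hh, sgn_neg hp, mul_one]
    intro v; change g (h (t k v)) = -(t k (g (h v))); rw [hh, hg]
  · rw [sgn_neg hp hg, sgn_neg hp hh, sgn_pos, neg_mul_neg, mul_one]
    intro v; change g (h (t k v)) = t k (g (h v)); rw [hh, map_neg, hg, neg_neg]

theorem rel_of_ker [Nontrivial M] (hp : 3 ≤ p) (ht : Frame5 t) (hn : Norm5 t P) {g : P}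
    (hg : g ∈ (permHom hp ht hn).ker) (k : Fin 5) : Rel t g k k := by
  have h1 := permHom_spec hp ht hn g k
  rw [MonoidHom.mem_ker] at hg
  rwa [hg] at h1

/-- the signs, as a homomorphism -/
noncomputable def eps [Nontrivial M] (hp : 3 ≤ p) (ht : Frame5 t) (hn : Norm5 t P) :
    (permHom hp ht hn).ker →* (Fin 5 → ℤˣ) where
  toFun g := fun k => sgn t ((g : P) : M ≃ₗ[ZMod p] M) k
  map_one' := by
    funext k
    exact sgn_pos fun v => rfl
  map_mul' g h := by
    funext k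
    exact sgn_mul hp (rel_of_ker hp ht hn g.2 k) (rel_of_ker hp ht hn h.2 k)

theorem t_rel (ht : Frame5 t) (j k : Fin 5) : Rel t (t j) k k := by
  by_cases h : j = k
  · left; intro v; rw [h]
  · right; intro v; exact anti' ht h v

/-- the sign vector of `t j` -/
def ev (j : Fin 5) : Fin 5 → ℤˣ := fun k => if k = j then 1 else -1

theorem sgn_t [Nontrivial M] (hp : 3 ≤ p) (ht : Frame5 t) (j k : Fin 5) : sgn t (t j) k = ev j k := by
  unfold ev
  by_cases h : k = j
  · rw [if_pos h]; exact sgn_pos fun v => by rw [h]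
  · rw [if_neg h]; exact sgn_neg hp fun v => anti' ht (Ne.symm h) v

theorem ev_gen : ∀ f : Fin 5 → ℤˣ, ∏ k, f k = 1 → f = ∏ j, (if f j = 1 then 1 else ev j) := by decide +kernel

theorem card_even : Nat.card (Subgroup.closure (Set.range ev)) = 16 := by
  have h1 : ((Subgroup.closure (Set.range ev) : Subgroup (Fin 5 → ℤˣ)) : Set (Fin 5 → ℤˣ)) =
      {f | ∏ k, f k = 1} := by
    refine Set.Subset.antisymm ?_ ?_
    · intro f hf
      refine Subgroup.closure_induction (p := fun f _ => ∏ k, f k = 1) ?_ ?_ ?_ ?_ hf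
      · rintro _ ⟨j, rfl⟩
        revert j; decide +kernel
      · simp
      · intro x y _ _ hx hy
        simp only [Pi.mul_apply, Finset.prod_mul_distrib, hx, hy, mul_one]
      · intro x _ hx
        simp only [Pi.inv_apply, Finset.prod_inv_distrib, hx, inv_one]
    · intro f hf
      have hf' : ∏ k, f k = 1 := hf
      change f ∈ Subgroup.closure (Set.range ev)
      rw [ev_gen f hf']
      refine Subgroup.prod_mem _ fun j _ => ?_
      split
      · exact Subgroup.one_mem _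
      · exact Subgroup.subset_closure ⟨j, rfl⟩
  have h2 : Nat.card {f : Fin 5 → ℤˣ // ∏ k, f k = 1} = 16 := by
    rw [Nat.card_eq_fintype_card]
    decide +kernel
  rw [← h2]
  exact Nat.card_congr (Equiv.setCongr h1)

theorem dvd_ker [Finite M] [Nontrivial M] (hp : 3 ≤ p) (ht : Frame5 t) (hn : Norm5 t P) (htP : ∀ k, t k ∈ P) :
    16 ∣ Nat.card (permHom hp ht hn).ker := by
  have h1 : Subgroup.closure (Set.range ev) ≤ (eps hp ht hn).range := by
    rw [Subgroup.closure_le]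
    rintro _ ⟨j, rfl⟩
    refine ⟨⟨⟨t j, htP j⟩, ?_⟩, ?_⟩
    · rw [MonoidHom.mem_ker]
      ext k
      rw [permHom_eq hp ht hn (t_rel ht j k)]
      rfl
    · funext k
      exact sgn_t hp ht j k
  have h2 := Subgroup.card_dvd_of_le h1
  rw [card_even] at h2
  exact h2.trans (Subgroup.card_range_dvd _)

theorem card_dvd [Finite M] [Nontrivial M] (hp : 3 ≤ p) (ht : Frame5 t) (hn : Norm5 t P) (htP : ∀ k, t k ∈ P)
    (hs : ∀ a b : Fin 5, a ≠ b → ∃ g : P, permHom hp ht hn g = Equiv.swap a b) : 1920 ∣ Nat.card P := by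
  have h1 : (permHom hp ht hn).range = ⊤ := by
    rw [eq_top_iff, ← Equiv.Perm.closure_isSwap, Subgroup.closure_le]
    rintro _ ⟨a, b, hab, rfl⟩
    obtain ⟨g, hg⟩ := hs a b hab
    exact ⟨g, hg⟩
  have h2 : Nat.card (permHom hp ht hn).range = 120 := by
    rw [h1, Subgroup.card_top, Nat.card_eq_fintype_card, Fintype.card_perm]
    rfl
  have h3 := Subgroup.card_mul_index (permHom hp ht hn).ker
  rw [Subgroup.index_ker, h2] at h3
  rw [← h3]
  exact mul_dvd_mul (dvd_ker hp ht hn htP) (dvd_refl 120)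

end perm

theorem exists_third (a b : Fin 5) : ∃ c, c ≠ a ∧ c ≠ b := by revert a b; decide

theorem sq_one : ∀ c : ZMod 7, c * c = 1 → c = 1 ∨ c = -1 := by decide

section seven

variable {M : Type u} [AddCommGroup M] [Fact (Nat.Prime 7)] [Module (ZMod 7) M]
  {t : Fin 5 → (M ≃ₗ[ZMod 7] M)} {P : Subgroup (M ≃ₗ[ZMod 7] M)}

/-- an involution over the transposition `(a b)`, inverting the other `t c` -/
structure Ty (t : Fin 5 → (M ≃ₗ[ZMod 7] M)) (P : Subgroup (M ≃ₗ[ZMod 7] M)) (a b : Fin 5)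
    (y : M ≃ₗ[ZMod 7] M) : Prop where
  mem : y ∈ P
  sq : ∀ v, y (y v) = v
  ab : (∀ v, y (t a v) = t b (y v)) ∨ (∀ v, y (t a v) = -(t b (y v)))
  ot : ∀ c, c ≠ a → c ≠ b → ∀ v, y (t c v) = -(t c (y v))

theorem Ty.symm {a b : Fin 5} {y : M ≃ₗ[ZMod 7] M} (h : Ty t P a b y) : Ty t P b a y := by
  refine ⟨h.mem, h.sq, ?_, fun c h1 h2 => h.ot c h2 h1⟩
  rcases h.ab with h1 | h1
  · left; intro v
    have h2 := congrArg y (h1 (y v))
    rw [h.sq, h.sq] at h2
    exact h2.symm
  · right; intro v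
    have h2 := congrArg y (h1 (y v))
    rw [h.sq, h.sq, map_neg] at h2
    rw [h2, neg_neg]

/-- the sign `ε = ±1` with `y t_a = ε t_b y` -/
theorem Ty.eps {a b : Fin 5} {y : M ≃ₗ[ZMod 7] M} (h : Ty t P a b y) :
    ∃ e : ZMod 7, e * e = 1 ∧ (∀ v, y (t a v) = e • t b (y v)) ∧ (∀ v, y (t b v) = e • t a (y v)) := by
  have h0 := h.ab
  rcases h0 with h1 | h1
  · refine ⟨1, by ring, fun v => by rw [h1, one_smul], fun v => ?_⟩
    have h2 := congrArg y (h1 (y v))
    rw [h.sq, h.sq] at h2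
    rw [one_smul, h2]
  · refine ⟨-1, by ring, fun v => by rw [h1, neg_one_smul], fun v => ?_⟩
    have h2 := congrArg y (h1 (y v))
    rw [h.sq, h.sq, map_neg] at h2
    rw [neg_one_smul, h2, neg_neg]

/-- elements of the same type -/
theorem Ty.eq (ht : Frame5 t)
    (hsc : ∀ x : M ≃ₗ[ZMod 7] M, (∀ k, ∀ v : M, x (t k v) = t k (x v)) → ∃ c : ZMod 7, ∀ v : M, x v = c • v)
    {a b : Fin 5} (hab : a ≠ b) {y y' : M ≃ₗ[ZMod 7] M} (h : Ty t P a b y) (h' : Ty t P a b y') [Nontrivial M] :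
    (∀ v, y' v = y v) ∨ (∀ v, y' v = -(y v)) ∨ (∀ v, y' v = t a (t b (y v))) ∨ (∀ v, y' v = -(t a (t b (y v)))) := by
  obtain ⟨w, hw⟩ := exists_ne (0 : M)
  obtain ⟨e, he, h1, h2⟩ := h.eps
  obtain ⟨e', he', h1', h2'⟩ := h'.eps
  rcases sq_one (e * e') (by linear_combination e' * e' * he + he') with hee | hee
  · -- `x = y' y` commutes with all `t k`
    obtain ⟨c, hc⟩ := hsc (y' * y) (by
      intro k v
      change y' (y (t k v)) = t k (y' (y v))
      by_cases hka : k = a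
      · subst hka
        rw [h1, map_smul, h2', smul_smul, hee, one_smul]
      by_cases hkb : k = b
      · subst hkb
        rw [h2, map_smul, h1', smul_smul, hee, one_smul]
      rw [h.ot k hka hkb, map_neg, h'.ot k hka hkb, neg_neg])
    have h3 : ∀ v, y' v = c • y v := by
      intro v
      have := hc (y v)
      change y' (y (y v)) = c • y v at this
      rwa [h.sq] at this
    have h4 : c * c = 1 := by
      have h5 := h'.sq w
      rw [h3, h3, map_smul, h.sq, smul_smul] at h5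
      have h6 : (c * c - 1) • w = 0 := by rw [sub_smul, h5, one_smul, sub_self]
      rcases smul_eq_zero.1 h6 with h7 | h7
      · exact sub_eq_zero.1 h7
      · exact absurd h7 hw
    rcases sq_one c h4 with rfl | rfl
    · left; intro v; rw [h3, one_smul]
    · right; left; intro v; rw [h3, neg_one_smul]
  · -- `x = y' y` times `t a t b` commutes with all `t k`
    have hee' : e' * e = -1 := by rw [mul_comm]; exact hee
    obtain ⟨c, hc⟩ := hsc (t a * t b * (y' * y)) (by
      intro k v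
      change t a (t b (y' (y (t k v)))) = t k (t a (t b (y' (y v))))
      by_cases hka : k = a
      · subst hka
        rw [h1, map_smul, h2', smul_smul, hee, neg_one_smul, map_neg, anti' ht (Ne.symm hab), neg_neg]
      by_cases hkb : k = b
      · subst hkb
        rw [h2, map_smul, h1', smul_smul, hee, neg_one_smul, map_neg, map_neg, anti' ht hab, neg_neg]
      rw [h.ot k hka hkb, map_neg, h'.ot k hka hkb, neg_neg, anti' ht (Ne.symm hkb), map_neg,
        anti' ht (Ne.symm hka), neg_neg])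
    have h3 : ∀ v, y' v = -c • t a (t b (y v)) := by
      intro v
      have h4 := hc (y v)
      change t a (t b (y' (y (y v)))) = c • y v at h4
      rw [h.sq] at h4
      have h5 := congrArg (fun u => t b (t a u)) h4
      simp only [map_smul] at h5
      rw [sq' ht, sq' ht] at h5
      rw [h5, anti' ht (Ne.symm hab), smul_neg, neg_smul]
    have h4 : c * c = 1 := by
      have h5 := h'.sq w
      have h8 : t a (t b (y (t a (t b (y w))))) = w := by
        rw [h1, h2]
        simp only [map_smul, smul_smul, he, one_smul, h.sq, sq' ht]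
      rw [h3, h3, map_smul, map_smul, map_smul, h8, smul_smul] at h5
      have h6 : (c * c - 1) • w = 0 := by
        rw [sub_smul, one_smul, sub_eq_zero]
        rw [neg_mul_neg] at h5
        exact h5
      rcases smul_eq_zero.1 h6 with h7 | h7
      · exact sub_eq_zero.1 h7
      · exact absurd h7 hw
    rcases sq_one c h4 with rfl | rfl
    · right; right; right; intro v; rw [h3, neg_one_smul]
    · right; right; left; intro v; rw [h3, neg_neg, one_smul]

section card

variable [Finite M]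

/-- the non-zero vectors `v` with `y v = ± v` -/
def Bs (y : M ≃ₗ[ZMod 7] M) : Set M := {v | v ≠ 0 ∧ (y v = v ∨ y v = -v)}

theorem card_Bs (hM : Nat.card M = 7 ^ 4) {y n : M ≃ₗ[ZMod 7] M} (hfx : Nat.card (fx y) ^ 2 = Nat.card M)
    (hn : ∀ v : M, n (y v) = -(y (n v))) : (Bs y).ncard ≤ 96 := by
  have h1 : Nat.card (fx y) = 49 := by
    rw [hM] at hfx
    exact Nat.pow_left_injective (n := 2) (by norm_num) (by simpa using hfx)
  have h2 : {v : M | v ≠ 0 ∧ y v = v}.ncard = 48 := by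
    have h3 : {v : M | v ≠ 0 ∧ y v = v} = (fx y : Set M) \ {0} := by
      ext v
      simp only [Set.mem_ofPred_eq, Set.mem_sdiff, SetLike.mem_coe, mem_fx, Set.mem_singleton_iff]
      tauto
    rw [h3, Set.ncard_sdiff_singleton_of_mem (by simp)]
    have h4 : (fx y : Set M).ncard = 49 := h1
    rw [h4]
  have h3 : {v : M | v ≠ 0 ∧ y v = -v}.ncard ≤ 48 := by
    rw [← h2]
    refine Set.ncard_le_ncard_of_injOn n ?_ n.injective.injOn (Set.toFinite _)
    rintro v ⟨hv, hv'⟩
    refine ⟨by rwa [Ne, LinearEquiv.map_eq_zero_iff], ?_⟩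
    have h4 := hn v
    rw [hv', map_neg, neg_inj] at h4
    exact h4.symm
  have h4 : Bs y = {v : M | v ≠ 0 ∧ y v = v} ∪ {v : M | v ≠ 0 ∧ y v = -v} := by
    ext v
    simp only [Bs, Set.mem_ofPred_eq, Set.mem_union]
    tauto
  rw [h4]
  refine (Set.ncard_union_le _ _).trans ?_
  omega

/-- the non-zero vectors fixed by some involution of type `(a b)` -/
def Gs (t : Fin 5 → (M ≃ₗ[ZMod 7] M)) (P : Subgroup (M ≃ₗ[ZMod 7] M)) (a b : Fin 5) : Set M :=
  {v | v ≠ 0 ∧ ∃ y, Ty t P a b y ∧ y v = v}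

theorem card_Gs [Nontrivial M] (hM : Nat.card M = 7 ^ 4) (ht : Frame5 t)
    (hsc : ∀ x : M ≃ₗ[ZMod 7] M, (∀ k, ∀ v : M, x (t k v) = t k (x v)) → ∃ c : ZMod 7, ∀ v : M, x v = c • v)
    (hfx : ∀ y n : M ≃ₗ[ZMod 7] M, y * y = 1 → (∀ v : M, n (y v) = -(y (n v))) → Nat.card (fx y) ^ 2 = Nat.card M)
    {a b : Fin 5} (hab : a ≠ b) : (Gs t P a b).ncard ≤ 192 := by
  by_cases hex : ∃ y, Ty t P a b y
  · obtain ⟨y, hy⟩ := hex
    obtain ⟨c, hca, hcb⟩ := exists_third a b
    obtain ⟨e, he, h1, h2⟩ := hy.eps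
    have hsub : Gs t P a b ⊆ Bs y ∪ Bs (t a * t b * y) := by
      rintro v ⟨hv, y', hy', hyv⟩
      rcases Ty.eq ht hsc hab hy hy' with h | h | h | h
      · left; exact ⟨hv, Or.inl (by rw [← h, hyv])⟩
      · left; exact ⟨hv, Or.inr (by rw [h, neg_eq_iff_eq_neg] at hyv; exact hyv)⟩
      · right; exact ⟨hv, Or.inl (by rw [h] at hyv; exact hyv)⟩
      · right; exact ⟨hv, Or.inr (by rw [h, neg_eq_iff_eq_neg] at hyv; exact hyv)⟩
    have hB1 : (Bs y).ncard ≤ 96 := by
      refine card_Bs hM (hfx y (t c) (LinearEquiv.ext fun v => hy.sq v) ?_) (n := t c) ?_ <;>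
      · intro v
        rw [hy.ot c hca hcb, neg_neg]
    have hB2 : (Bs (t a * t b * y)).ncard ≤ 96 := by
      have h3 : ∀ v : M, t c ((t a * t b * y) v) = -((t a * t b * y) (t c v)) := by
        intro v
        change t c (t a (t b (y v))) = -(t a (t b (y (t c v))))
        rw [hy.ot c hca hcb, map_neg, map_neg, neg_neg, anti' ht hca, anti' ht hcb, map_neg, neg_neg]
      refine card_Bs hM (hfx _ (t c) (LinearEquiv.ext fun v => ?_) h3) h3
      change t a (t b (y (t a (t b (y v))))) = v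
      rw [h1, h2]
      simp only [map_smul, smul_smul, he, one_smul, hy.sq, sq' ht]
    refine (Set.ncard_le_ncard hsub (Set.toFinite _)).trans ((Set.ncard_union_le _ _).trans ?_)
    omega
  · have h1 : Gs t P a b = ∅ := by
      rw [Set.eq_empty_iff_forall_notMem]
      rintro v ⟨_, y, hy, _⟩
      exact hex ⟨y, hy⟩
    rw [h1, Set.ncard_empty]
    exact Nat.zero_le _

/-- the vectors fixed by no `± t k` -/
def Fs (t : Fin 5 → (M ≃ₗ[ZMod 7] M)) : Set M := {v | v ≠ 0 ∧ ∀ k, t k v ≠ v ∧ t k v ≠ -v}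

theorem card_Fs (hM : Nat.card M = 7 ^ 4) (ht : Frame5 t)
    (hfx : ∀ y n : M ≃ₗ[ZMod 7] M, y * y = 1 → (∀ v : M, n (y v) = -(y (n v))) → Nat.card (fx y) ^ 2 = Nat.card M) :
    1920 ≤ (Fs t).ncard := by
  classical
  have hB : ∀ k, (Bs (t k)).ncard ≤ 96 := by
    intro k
    obtain ⟨c, hc, -⟩ := exists_third k k
    exact card_Bs hM (hfx _ (t c) (ht.sq k) (anti' ht hc)) (anti' ht hc)
  have h1 : (⋃ k ∈ (Finset.univ : Finset (Fin 5)), Bs (t k)).ncard ≤ 480 := by
    refine (Finset.set_ncard_biUnion_le _ _).trans ?_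
    refine (Finset.sum_le_card_nsmul _ _ 96 fun k _ => hB k).trans ?_
    simp
  have h2 : (Set.univ : Set M) ⊆ {0} ∪ (⋃ k ∈ (Finset.univ : Finset (Fin 5)), Bs (t k)) ∪ Fs t := by
    intro v _
    by_cases hv : v = 0
    · left; left; exact hv
    by_cases h : ∀ k, t k v ≠ v ∧ t k v ≠ -v
    · right; exact ⟨hv, h⟩
    · left; right
      push Not at h
      obtain ⟨k, hk⟩ := h
      simp only [Set.mem_iUnion]
      refine ⟨k, Finset.mem_univ k, hv, ?_⟩
      by_cases h3 : t k v = v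
      · exact Or.inl h3
      · exact Or.inr (hk h3)
  have h3 := Set.ncard_le_ncard h2 (Set.toFinite _)
  have h4 := Set.ncard_union_le ({0} ∪ (⋃ k ∈ (Finset.univ : Finset (Fin 5)), Bs (t k))) (Fs t)
  have h5 := Set.ncard_union_le ({0} : Set M) (⋃ k ∈ (Finset.univ : Finset (Fin 5)), Bs (t k))
  rw [Set.ncard_singleton] at h5
  rw [Set.ncard_univ, hM] at h3
  omega

theorem exists_fixing (hM : Nat.card M = 7 ^ 4) (ht : Frame5 t) (htP : ∀ k, t k ∈ P)
    (hfx : ∀ y n : M ≃ₗ[ZMod 7] M, y * y = 1 → (∀ v : M, n (y v) = -(y (n v))) → Nat.card (fx y) ^ 2 = Nat.card M)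
    [Nontrivial M] {h : ℕ} (hh : Half P h) : 2 ∣ h := by
  have h1 : Nat.card (fx (t 0)) ^ 2 = Nat.card M := hfx _ (t 1) (ht.sq 0) (anti' ht (by decide))
  have h2 : Nat.card (fx (t 0)) = 49 := by
    rw [hM] at h1
    exact Nat.pow_left_injective (n := 2) (by norm_num) (by simpa using h1)
  obtain ⟨v, hv⟩ : ∃ v : fx (t 0), v ≠ 0 := by
    have : Nontrivial (fx (t 0)) := Finite.one_lt_card_iff_nontrivial.1 (by rw [h2]; norm_num)
    exact exists_ne 0
  have hv0 : (v : M) ≠ 0 := fun h => hv (Subtype.ext h)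
  rw [← hh v hv0]
  have h3 : (⟨t 0, htP 0⟩ : P) ∈ MulAction.stabilizer P (v : M) := mem_fx.1 v.2
  have h4 : orderOf (⟨⟨t 0, htP 0⟩, h3⟩ : MulAction.stabilizer P (v : M)) = 2 := by
    refine orderOf_eq_prime ?_ ?_
    · apply Subtype.ext; apply Subtype.ext
      change (t 0) ^ 2 = 1
      rw [pow_two]; exact ht.sq 0
    · intro h5
      have h6 : t 0 = 1 := congrArg (fun x : MulAction.stabilizer P (v : M) => ((x : P) : M ≃ₗ[ZMod 7] M)) h5
      obtain ⟨w, hw⟩ := exists_ne (0 : M)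
      have h7 := anti' ht (show (0 : Fin 5) ≠ 1 by decide) w
      rw [h6] at h7
      change t 1 w = -(t 1 w) at h7
      have h8 := eq_zero_of_neg (p := 7) (by norm_num) h7
      rw [LinearEquiv.map_eq_zero_iff] at h8
      exact hw h8
  rw [← h4]
  exact orderOf_dvd_natCard _

/-- all transpositions occur -/
theorem all_swaps [Nontrivial M] (hM : Nat.card M = 7 ^ 4) (ht : Frame5 t) (htP : ∀ k, t k ∈ P)
    (hsc : ∀ x : M ≃ₗ[ZMod 7] M, (∀ k, ∀ v : M, x (t k v) = t k (x v)) → ∃ c : ZMod 7, ∀ v : M, x v = c • v)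
    (hfx : ∀ y n : M ≃ₗ[ZMod 7] M, y * y = 1 → (∀ v : M, n (y v) = -(y (n v))) → Nat.card (fx y) ^ 2 = Nat.card M)
    (hty : ∀ y ∈ H662.HT.Inv P, (∃ k, y = t k ∨ ∀ w : M, y w = -(t k w)) ∨
      ∃ a b : Fin 5, a ≠ b ∧ ((∀ v, y (t a v) = t b (y v)) ∨ (∀ v, y (t a v) = -(t b (y v)))) ∧
        ∀ c, c ≠ a → c ≠ b → ∀ v, y (t c v) = -(t c (y v)))
    {h : ℕ} (hh : Half P h) {a b : Fin 5} (hab : a < b) : ∃ y, Ty t P a b y := by
  classical
  by_contra hno
  have h2 := exists_fixing hM ht htP hfx hh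
  have h1920 := card_Fs hM ht hfx
  set Q : Finset (Fin 5 × Fin 5) := Finset.univ.filter (fun q => q.1 < q.2) with hQ
  have hQc : Q.card = 10 := by rw [hQ]; decide
  have hmem : (a, b) ∈ Q := by rw [hQ, Finset.mem_filter]; exact ⟨Finset.mem_univ _, hab⟩
  have hsub : Fs t ⊆ ⋃ q ∈ Q.erase (a, b), Gs t P q.1 q.2 := by
    rintro v ⟨hv, hv'⟩
    have h3 : 2 ∣ Nat.card (MulAction.stabilizer P v) := by rw [hh v hv]; exact h2
    obtain ⟨y, hy⟩ := exists_prime_orderOf_dvd_card' 2 h3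
    set y' : M ≃ₗ[ZMod 7] M := ((y : P) : M ≃ₗ[ZMod 7] M) with hy'
    have hyv : y' v = v := y.2
    have hyP : y' ∈ P := (y : P).2
    have hyy : y' * y' = 1 := by
      have h4 : y ^ 2 = 1 := by rw [← hy]; exact pow_orderOf_eq_one y
      have h5 := congrArg (fun x : MulAction.stabilizer P v => ((x : P) : M ≃ₗ[ZMod 7] M)) h4
      rw [pow_two] at h5
      exact h5
    have hy1 : y' ≠ 1 := by
      intro h4
      have h5 : y = 1 := Subtype.ext (Subtype.ext h4)
      rw [h5, orderOf_one] at hy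
      norm_num at hy
    have hI : y' ∈ H662.HT.Inv P := ⟨hyP, hyy, hy1, v, fun h4 => hv (eq_zero_of_neg (p := 7) (by norm_num) (hyv.symm.trans h4))⟩
    have hsq : ∀ v, y' (y' v) = v := fun v => LinearEquiv.congr_fun hyy v
    rcases hty y' hI with ⟨k, hk | hk⟩ | ⟨c, d, hcd, h4, h5⟩
    · exact absurd (by rw [← hk, hyv]) (hv' k).1
    · exact absurd (by rw [hk, neg_eq_iff_eq_neg] at hyv; exact hyv) (hv' k).2
    · have hT : Ty t P c d y' := ⟨hyP, hsq, h4, h5⟩
      have key : ∀ c d : Fin 5, c < d → Ty t P c d y' → v ∈ ⋃ q ∈ Q.erase (a, b), Gs t P q.1 q.2 := by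
        intro c d hcd hT
        simp only [Set.mem_iUnion]
        refine ⟨(c, d), ?_, hv, y', hT, hyv⟩
        rw [Finset.mem_erase, hQ, Finset.mem_filter]
        refine ⟨fun h6 => ?_, Finset.mem_univ _, hcd⟩
        rw [Prod.mk.injEq] at h6
        rw [h6.1, h6.2] at hT
        exact hno ⟨_, hT⟩
      rcases lt_or_gt_of_ne hcd with h6 | h6
      · exact key c d h6 hT
      · exact key d c h6 hT.symm
  have h3 := Set.ncard_le_ncard hsub (Set.toFinite _)
  have h4 : (⋃ q ∈ Q.erase (a, b), Gs t P q.1 q.2).ncard ≤ 1728 := by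
    refine (Finset.set_ncard_biUnion_le _ _).trans ?_
    refine (Finset.sum_le_card_nsmul _ _ 192 fun q hq => ?_).trans ?_
    · rw [Finset.mem_erase, hQ, Finset.mem_filter] at hq
      exact card_Gs hM ht hsc hfx (ne_of_lt hq.2.2)
    · rw [Finset.card_erase_of_mem hmem, hQc]; norm_num
  omega

/-- a type is a transposition -/
theorem Ty.perm [Nontrivial M] (ht : Frame5 t) (hn : Norm5 t P) {a b : Fin 5} {y : M ≃ₗ[ZMod 7] M}
    (h : Ty t P a b y) : permHom (by norm_num) ht hn ⟨y, h.mem⟩ = Equiv.swap a b := by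
  ext k
  congr 1
  refine permHom_eq (by norm_num) ht hn ?_
  change Rel t y k (Equiv.swap a b k)
  by_cases hka : k = a
  · subst hka
    rw [Equiv.swap_apply_left]
    exact h.ab
  by_cases hkb : k = b
  · subst hkb
    rw [Equiv.swap_apply_right]
    exact h.symm.ab
  rw [Equiv.swap_apply_of_ne_of_ne hka hkb]
  exact Or.inr (h.ot k hka hkb)

theorem alpha_seven_aux (hM : Nat.card M = 7 ^ 4) (ht : Frame5 t) (hn : Norm5 t P) (htP : ∀ k, t k ∈ P)
    (hsc : ∀ x : M ≃ₗ[ZMod 7] M, (∀ k, ∀ v : M, x (t k v) = t k (x v)) → ∃ c : ZMod 7, ∀ v : M, x v = c • v)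
    (hfx : ∀ y n : M ≃ₗ[ZMod 7] M, y * y = 1 → (∀ v : M, n (y v) = -(y (n v))) → Nat.card (fx y) ^ 2 = Nat.card M)
    (hty : ∀ y ∈ H662.HT.Inv P, (∃ k, y = t k ∨ ∀ w : M, y w = -(t k w)) ∨
      ∃ a b : Fin 5, a ≠ b ∧ ((∀ v, y (t a v) = t b (y v)) ∨ (∀ v, y (t a v) = -(t b (y v)))) ∧
        ∀ c, c ≠ a → c ≠ b → ∀ v, y (t c v) = -(t c (y v)))
    {h m : ℕ} (hh : Half P h) (hm : m * h = Nat.card P) (hm' : m ∣ 480) : False := by
  classical
  have : Nontrivial M := Finite.one_lt_card_iff_nontrivial.1 (by rw [hM]; norm_num)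
  have h7 : 3 ≤ 7 := by norm_num
  have hs : ∀ a b : Fin 5, a ≠ b → ∃ g : P, permHom h7 ht hn g = Equiv.swap a b := by
    intro a b hab
    rcases lt_or_gt_of_ne hab with h6 | h6
    · obtain ⟨y, hy⟩ := all_swaps hM ht htP hsc hfx hty hh h6
      exact ⟨⟨y, hy.mem⟩, hy.perm ht hn⟩
    · obtain ⟨y, hy⟩ := all_swaps hM ht htP hsc hfx hty hh h6
      refine ⟨⟨y, hy.mem⟩, ?_⟩
      rw [hy.perm ht hn, Equiv.swap_comm]
  have h1 := card_dvd h7 ht hn htP hs
  have h4 : 4 ∣ h := by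
    have h2 : 480 * 4 ∣ 480 * h := by
      rw [← hm] at h1
      exact h1.trans (mul_dvd_mul_right hm' h)
    exact Nat.dvd_of_mul_dvd_mul_left (by norm_num) h2
  have h5 := card_Fs hM ht hfx
  obtain ⟨v, hv, hv'⟩ : (Fs t).Nonempty := by
    rw [← Set.ncard_pos]; omega
  set χ : MulAction.stabilizer P v →* ℤˣ :=
    (Equiv.Perm.sign).comp ((permHom h7 ht hn).comp (MulAction.stabilizer P v).subtype) with hχ
  have h6 := Subgroup.card_mul_index χ.ker
  rw [Subgroup.index_ker, hh v hv] at h6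
  have h8 : Nat.card χ.range ∣ 2 := by
    have h9 := Subgroup.card_subgroup_dvd_card χ.range
    have h10 : Nat.card ℤˣ = 2 := by rw [Nat.card_eq_fintype_card]; rfl
    rwa [h10] at h9
  have h9 : 2 ∣ Nat.card χ.ker := by
    have h10 : 2 * 2 ∣ Nat.card χ.ker * 2 := by
      refine Dvd.dvd.trans ?_ (mul_dvd_mul_left (Nat.card χ.ker) h8)
      rw [h6]; exact h4
    exact Nat.dvd_of_mul_dvd_mul_right (by norm_num) h10
  obtain ⟨y, hy⟩ := exists_prime_orderOf_dvd_card' 2 h9
  set y' : M ≃ₗ[ZMod 7] M := (((y : MulAction.stabilizer P v) : P) : M ≃ₗ[ZMod 7] M) with hy'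
  have hyv : y' v = v := (y : MulAction.stabilizer P v).2
  have hyP : y' ∈ P := ((y : MulAction.stabilizer P v) : P).2
  have hyy : y' * y' = 1 := by
    have h4 : y ^ 2 = 1 := by rw [← hy]; exact pow_orderOf_eq_one y
    have h5 := congrArg (fun x : χ.ker => (((x : MulAction.stabilizer P v) : P) : M ≃ₗ[ZMod 7] M)) h4
    rw [pow_two] at h5
    exact h5
  have hy1 : y' ≠ 1 := by
    intro h4
    have h5 : y = 1 := Subtype.ext (Subtype.ext (Subtype.ext h4))
    rw [h5, orderOf_one] at hy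
    norm_num at hy
  have hI : y' ∈ H662.HT.Inv P := ⟨hyP, hyy, hy1, v, fun h4 => hv (eq_zero_of_neg (p := 7) (by norm_num) (hyv.symm.trans h4))⟩
  have hsq : ∀ v, y' (y' v) = v := fun v => LinearEquiv.congr_fun hyy v
  rcases hty y' hI with ⟨k, hk | hk⟩ | ⟨c, d, hcd, h10, h11⟩
  · exact absurd (by rw [← hk, hyv]) (hv' k).1
  · exact absurd (by rw [hk, neg_eq_iff_eq_neg] at hyv; exact hyv) (hv' k).2
  · have hT : Ty t P c d y' := ⟨hyP, hsq, h10, h11⟩
    have h12 : χ (y : MulAction.stabilizer P v) = 1 := y.2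
    have h13 : χ (y : MulAction.stabilizer P v) = Equiv.Perm.sign (permHom h7 ht hn ⟨y', hyP⟩) := rfl
    rw [h13, hT.perm ht hn, Equiv.Perm.sign_swap hcd] at h12
    exact absurd h12 (by decide)

end card

end seven

/-- **C3b** -/
theorem alpha_seven {M : Type u} [AddCommGroup M] [Fact (Nat.Prime 7)] [Module (ZMod 7) M] [Finite M]
    (hM : Nat.card M = 7 ^ 4) {t : Fin 5 → (M ≃ₗ[ZMod 7] M)} (ht : Frame5 t) {P : Subgroup (M ≃ₗ[ZMod 7] M)}
    (hn : Norm5 t P) (htP : ∀ k, t k ∈ P) {h m : ℕ} (hh : Half P h) (_h2 : 2 ≤ h)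
    (hm : m * h = Nat.card P) (hm' : m ∣ 480) : False :=
  alpha_seven_aux hM ht hn htP (fun x hx => H528.HT.scalar_of_comm (by norm_num) ht hM x hx)
    (fun y n hy hn => H528.HT.card_fx_anti (by norm_num) hy hn)
    (fun _ hy => H486.HT.seven_type hM ht hn hy) hh hm hm'

end Cfsg.Agent.H140.HT
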